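import Mathlib.RingTheory.PicardGroup
import Mathlib.RingTheory.IntegralClosure.IsIntegral.Basic
import Mathlib.RingTheory.Ideal.GoingUp
import Mathlib.RingTheory.Ideal.MinimalPrime.Noetherian
import Mathlib.RingTheory.Polynomial.Nilpotent
import Mathlib.Algebra.Module.ZMod
import Mathlib.GroupTheory.FiniteAbelian.Basic
import Mathlib.Tactic

/-!
# Picard groups of quotients of finite reduced algebras over the integers
-/

set_option autoImplicit false
set_option linter.style.haveILetI false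
set_option maxHeartbeats 800000

universe u

open TensorProduct

namespace PicSurjLib

variable {A : Type u} [CommRing A]

theorem eq_zero_of_forall_minimalPrimes [IsReduced A] {x : A} (h : ∀ p ∈ minimalPrimes A, x ∈ p) : x = 0 := by
  have hx : x ∈ sInf ((⊥ : Ideal A).minimalPrimes) := Ideal.mem_sInf.mpr fun {p} hp => h p hp
  rw [Ideal.sInf_minimalPrimes, show (⊥ : Ideal A).radical = nilradical A from rfl, nilradical_eq_zero A] at hx
  exact hx

theorem mem_nonZeroDivisors_of_notMem_minimalPrimes [IsReduced A] {x : A} (h : ∀ p ∈ minimalPrimes A, x ∉ p) :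
    x ∈ nonZeroDivisors A := by
  rw [mem_nonZeroDivisors_iff_right]
  intro y hy
  refine eq_zero_of_forall_minimalPrimes fun p hp => ?_
  haveI : p.IsPrime := hp.1.1
  exact ((Ideal.IsPrime.mem_or_mem ‹_› (show y * x ∈ p by rw [hy]; exact p.zero_mem)).resolve_right (h p hp))

/-- A prime number is not invertible modulo a minimal prime of a torsion free finite algebra over the integers. -/
theorem one_sub_notMem_minimalPrimes [Module.Finite ℤ A] (htf : ∀ n : ℤ, n ≠ 0 → (n : A) ∈ nonZeroDivisors A)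
    {ℓ : ℕ} (hℓ : ℓ.Prime) {p : Ideal A} (hp : p ∈ minimalPrimes A) (c : A) : 1 - (ℓ : A) * c ∉ p := by
  intro hmem
  haveI : p.IsPrime := hp.1.1
  haveI : (Ideal.span {(ℓ : ℤ)}).IsPrime :=
    (Ideal.span_singleton_prime (by exact_mod_cast hℓ.ne_zero)).mpr (Nat.prime_iff_prime_int.mp hℓ)
  haveI : Algebra.IsIntegral ℤ A := Algebra.IsIntegral.of_finite ℤ A
  have hle : p.comap (algebraMap ℤ A) ≤ Ideal.span {(ℓ : ℤ)} := by
    intro n hn
    by_cases h0 : n = 0
    · rw [h0]; exact zero_mem _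
    · exact absurd (htf n h0) (Set.disjoint_left.mp (Ideal.disjoint_nonZeroDivisors_of_mem_minimalPrimes hp) (by simpa using hn))
  obtain ⟨Q, hpQ, hQ, hQc⟩ := Ideal.exists_ideal_over_prime_of_isIntegral (Ideal.span {(ℓ : ℤ)}) p hle
  have hl : (ℓ : A) ∈ Q := by
    have : (ℓ : ℤ) ∈ Q.comap (algebraMap ℤ A) := hQc ▸ Ideal.mem_span_singleton_self _
    simpa using this
  refine hQ.ne_top ((Ideal.eq_top_iff_one _).mpr ?_)
  have := Q.add_mem (hpQ hmem) (Q.mul_mem_right c hl)
  rwa [sub_add_cancel] at this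

theorem finite_quotient_of_nonZeroDivisor_mem [Module.Finite ℤ A] (htf : ∀ n : ℤ, n ≠ 0 → (n : A) ∈ nonZeroDivisors A)
    {D : Ideal A} {x : A} (hx : x ∈ nonZeroDivisors A) (hxD : x ∈ D) : Finite (A ⧸ D) := by
  rcases subsingleton_or_nontrivial A with h | h
  · exact inferInstance
  haveI : Algebra.IsIntegral ℤ A := Algebra.IsIntegral.of_finite ℤ A
  obtain ⟨f, hf, hf0⟩ : ∃ f : Polynomial ℤ, Polynomial.aeval x f = 0 ∧ f.coeff 0 ≠ 0 := by
    obtain ⟨g, hg, hgx⟩ := Algebra.IsIntegral.isIntegral (R := ℤ) x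
    obtain ⟨f, hgf, hf0⟩ := Polynomial.exists_eq_pow_rootMultiplicity_mul_and_not_dvd g hg.ne_zero 0
    simp only [map_zero, sub_zero] at hgf hf0
    refine ⟨f, ?_, fun h0 => hf0 (Polynomial.X_dvd_iff.mpr h0)⟩
    have hgx' : Polynomial.aeval x g = 0 := hgx
    rw [hgf, map_mul, map_pow, Polynomial.aeval_X] at hgx'
    exact (mem_nonZeroDivisors_iff_right.mp (pow_mem hx _)) _ (by rwa [mul_comm])
  have hmem : ((f.coeff 0 : ℤ) : A) ∈ D := by
    obtain ⟨q, hq⟩ := Polynomial.X_dvd_iff.mpr (show (f - Polynomial.C (f.coeff 0)).coeff 0 = 0 by simp)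
    have := congrArg (Polynomial.aeval x) hq
    rw [map_sub, hf, Polynomial.aeval_C, map_mul, Polynomial.aeval_X, zero_sub] at this
    simp only [algebraMap_int_eq, eq_intCast] at this
    rw [← Ideal.neg_mem_iff, this]
    exact D.mul_mem_right _ hxD
  haveI : Module.Finite ℤ (A ⧸ D) := Module.Finite.quotient ℤ D
  refine Module.finite_of_fg_torsion (M := A ⧸ D) fun y => ⟨⟨f.coeff 0, mem_nonZeroDivisors_of_ne_zero hf0⟩, ?_⟩
  obtain ⟨a, rfl⟩ := Ideal.Quotient.mk_surjective y
  rw [Submonoid.mk_smul, ← map_zsmul, Ideal.Quotient.eq_zero_iff_mem, zsmul_eq_mul]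
  exact D.mul_mem_right _ hmem

/-- An invertible module has a coordinate which is surjective modulo an ideal with finite quotient. -/
theorem exists_dual_sup_eq_top (M : Type u) [AddCommGroup M] [Module A M] [Module.Invertible A M] (D : Ideal A)
    [Finite (A ⧸ D)] : ∃ φ : M →ₗ[A] A, LinearMap.range φ ⊔ D = ⊤ := by
  haveI : Finite (MaximalSpectrum (A ⧸ D)) :=
    Finite.of_injective (fun m => (m.asIdeal : Set (A ⧸ D))) fun a b h => MaximalSpectrum.ext (SetLike.coe_injective h)
  obtain ⟨e⟩ := Module.Invertible.free_iff_linearEquiv.mp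
    (inferInstance : Module.Free (A ⧸ D) ((A ⧸ D) ⊗[A] M))
  let f : M →ₗ[A] A ⧸ D := (e.toLinearMap.restrictScalars A).comp (TensorProduct.mk A (A ⧸ D) M 1)
  obtain ⟨φ, hφ⟩ := Module.projective_lifting_property (Ideal.Quotient.mkₐ A D).toLinearMap f
    (Ideal.Quotient.mkₐ_surjective A D)
  refine ⟨φ, eq_top_iff.mpr fun a _ => ?_⟩
  have h : ∀ y : (A ⧸ D) ⊗[A] M, e y ∈ Submodule.span (A ⧸ D) (Set.range f) := fun y => by
    induction y using TensorProduct.induction_on with
    | zero => simp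
    | add u v hu hv => rw [map_add]; exact Submodule.add_mem _ hu hv
    | tmul q m =>
      rw [show q ⊗ₜ[A] m = q • ((1 : A ⧸ D) ⊗ₜ[A] m) by rw [TensorProduct.smul_tmul', smul_eq_mul, mul_one], map_smul]
      exact Submodule.smul_mem _ _ (Submodule.subset_span ⟨m, rfl⟩)
  have h1 : Ideal.Quotient.mk D a ∈ Ideal.map (Ideal.Quotient.mk D) (LinearMap.range φ) := by
    have hspan : Submodule.span (A ⧸ D) (Set.range f) ≤ Ideal.map (Ideal.Quotient.mk D) (LinearMap.range φ) :=
      Submodule.span_le.mpr (by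
        rintro _ ⟨m, rfl⟩
        rw [← hφ]
        exact Ideal.mem_map_of_mem _ ⟨m, rfl⟩)
    have := hspan (h (e.symm (Ideal.Quotient.mk D a)))
    rwa [e.apply_symm_apply] at this
  obtain ⟨y, hy, hya⟩ := (Ideal.mem_map_iff_of_surjective _ Ideal.Quotient.mk_surjective).mp h1
  rw [← sub_sub_cancel y a]
  exact Ideal.sub_mem _ (Submodule.mem_sup_left hy) (Submodule.mem_sup_right (Ideal.Quotient.eq.mp hya))

theorem apply_smul_comm {M : Type u} [AddCommGroup M] [Module A M] [Module.Invertible A M] (φ ψ : M →ₗ[A] A)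
    (x y : M) : φ x * ψ y = φ y * ψ x := by
  have := congrArg (TensorProduct.lift ((LinearMap.mul A A).compl₁₂ φ ψ)) (Module.Invertible.tmul_comm (m₁ := x) (m₂ := y))
  simpa using this

/-- An invertible module is an ideal which meets a given ideal properly, and has a partner. -/
theorem exists_ideal_pair [IsReduced A] [Module.Finite ℤ A] (htf : ∀ n : ℤ, n ≠ 0 → (n : A) ∈ nonZeroDivisors A)
    (M : Type u) [AddCommGroup M] [Module A M] [Module.Invertible A M] (D : Ideal A) [hD : Finite (A ⧸ D)]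
    {ℓ : ℕ} (hℓ : ℓ.Prime) (hlD : D ≤ Ideal.span {(ℓ : A)}) :
    ∃ (J J' : Ideal A) (b : A), b ∈ nonZeroDivisors A ∧ b - 1 ∈ D ∧ J * J' = Ideal.span {b} ∧
      Nonempty (M ≃ₗ[A] J) ∧ b ∈ J ∧ b ∈ J' := by
  obtain ⟨φ, hφ⟩ := exists_dual_sup_eq_top M D
  obtain ⟨_, ⟨y, rfl⟩, d, hd, hyd⟩ := Submodule.mem_sup.mp (show (1 : A) ∈ LinearMap.range φ ⊔ D by rw [hφ]; trivial)
  have hb : φ y = 1 - d := eq_sub_of_add_eq hyd
  obtain ⟨c, rfl⟩ := Ideal.mem_span_singleton'.mp (hlD hd)
  have hnzd : φ y ∈ nonZeroDivisors A := mem_nonZeroDivisors_of_notMem_minimalPrimes fun p hp => by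
    rw [hb, mul_comm]
    exact one_sub_notMem_minimalPrimes htf hℓ hp c
  let J' : Ideal A := LinearMap.range (Module.Dual.eval A M y)
  refine ⟨LinearMap.range φ, J', φ y, hnzd, ?_, le_antisymm ?_ ?_, ?_, ⟨y, rfl⟩, ⟨φ, rfl⟩⟩
  · rw [hb, sub_sub_cancel_left]
    exact D.neg_mem hd
  · refine Ideal.mul_le.mpr ?_
    rintro _ ⟨m, rfl⟩ _ ⟨ψ, rfl⟩
    rw [Module.Dual.eval_apply, apply_smul_comm]
    exact Ideal.mem_span_singleton'.mpr ⟨ψ m, mul_comm _ _⟩
  · rw [Ideal.span_singleton_le_iff_mem]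
    obtain ⟨t, ht⟩ := (Module.Invertible.linearEquiv A M).surjective 1
    suffices h : ∀ t, φ y * Module.Invertible.linearEquiv A M t ∈ LinearMap.range φ * J' by
      have := h t
      rwa [ht, mul_one] at this
    intro t
    induction t using TensorProduct.induction_on with
    | zero => simp
    | add u v hu hv => rw [map_add, mul_add]; exact Submodule.add_mem _ hu hv
    | tmul ψ m =>
      rw [show Module.Invertible.linearEquiv A M (ψ ⊗ₜ m) = ψ m from rfl, apply_smul_comm]
      exact Ideal.mul_mem_mul ⟨m, rfl⟩ ⟨ψ, rfl⟩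
  · refine ⟨LinearEquiv.ofInjective φ (LinearMap.ker_eq_bot.mp (LinearMap.ker_eq_bot'.mpr fun m hm => ?_))⟩
    rw [← Module.forall_dual_apply_eq_zero_iff A]
    intro ψ
    refine (mem_nonZeroDivisors_iff_right.mp hnzd) _ ?_
    rw [mul_comm, apply_smul_comm, hm, zero_mul]

/-- Invertible modules extend from a quotient of a reduced finite algebra over the integers. -/
theorem surjective_mapRingHom [IsReduced A] [Module.Finite ℤ A] (htf : ∀ n : ℤ, n ≠ 0 → (n : A) ∈ nonZeroDivisors A)
    {B : Type u} [CommRing B] [IsReduced B] (htfB : ∀ n : ℤ, n ≠ 0 → (n : B) ∈ nonZeroDivisors B)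
    (π : A →+* B) (hπ : Function.Surjective π) : Function.Surjective (CommRing.Pic.mapRingHom π) := by
  classical
  intro P
  letI := π.toAlgebra
  haveI : Module.Finite A B := Module.Finite.of_surjective (Algebra.linearMap A B) hπ
  haveI : Module.Finite ℤ B := Module.Finite.trans A B
  let I := RingHom.ker π
  let X : Ideal A := I ⊔ (⊥ : Ideal A).colon (↑I : Set A)
  haveI : IsNoetherianRing A := isNoetherian_of_tower ℤ inferInstance
  haveI : IsNoetherianRing B := isNoetherian_of_tower ℤ inferInstance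
  have hXmin : ∀ p ∈ minimalPrimes A, ¬ X ≤ p := by
    intro p hp hle
    haveI : p.IsPrime := hp.1.1
    let T := (minimalPrimes.finite_of_isNoetherianRing A).toFinset.filter fun q => ¬ I ≤ q
    have hT : ¬ T.inf id ≤ p := fun h => by
      obtain ⟨q, hq, hqp⟩ := (Ideal.IsPrime.inf_le' ‹p.IsPrime›).mp h
      obtain ⟨hq1, hq2⟩ := Finset.mem_filter.mp hq
      rw [Set.Finite.mem_toFinset] at hq1
      have hqp' : q ≤ p := hqp
      exact hq2 ((le_sup_left.trans hle).trans (hp.2 ⟨hq1.1.1, bot_le⟩ hqp'))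
    obtain ⟨s, hsT, hsp⟩ := SetLike.not_le_iff_exists.mp hT
    refine hsp (hle (Submodule.mem_sup_right (Submodule.mem_colon.mpr fun x hx => ?_)))
    rw [Submodule.mem_bot, smul_eq_mul]
    refine eq_zero_of_forall_minimalPrimes fun q hq => ?_
    by_cases hIq : I ≤ q
    · exact q.mul_mem_left _ (hIq hx)
    · exact q.mul_mem_right _ (Finset.inf_le (f := id)
        (Finset.mem_filter.mpr ⟨(minimalPrimes.finite_of_isNoetherianRing A).mem_toFinset.mpr hq, hIq⟩) hsT)
  obtain ⟨x, hxX, hx⟩ : ∃ x ∈ X, x ∈ nonZeroDivisors A := by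
    by_contra h
    push Not at h
    have hsub : (X : Set A) ⊆ ⋃ p ∈ ((minimalPrimes.finite_of_isNoetherianRing A).toFinset : Set (Ideal A)), (p : Set A) := by
      intro a ha
      by_contra hna
      simp only [Set.mem_iUnion, not_exists, Set.Finite.coe_toFinset] at hna
      exact h a ha (mem_nonZeroDivisors_of_notMem_minimalPrimes fun p hp hap => hna p hp hap)
    obtain ⟨p, hp, hXp⟩ := (Ideal.subset_union_prime (f := id) ⊥ ⊥ fun i hi _ _ =>
      ((minimalPrimes.finite_of_isNoetherianRing A).mem_toFinset.mp hi).1.1).mp hsub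
    exact hXmin p ((minimalPrimes.finite_of_isNoetherianRing A).mem_toFinset.mp hp) hXp
  obtain ⟨ℓ, hℓ⟩ : ∃ ℓ : ℕ, ℓ.Prime := ⟨2, Nat.prime_two⟩
  have hxl : (ℓ : A) * x ∈ nonZeroDivisors A := mul_mem (by simpa using htf ℓ (by exact_mod_cast hℓ.ne_zero)) hx
  let E : Ideal A := Ideal.span {(ℓ : A)} * X
  haveI : Finite (A ⧸ E) := finite_quotient_of_nonZeroDivisor_mem htf hxl
    (Ideal.mul_mem_mul (Ideal.mem_span_singleton_self _) hxX)
  haveI : Finite (B ⧸ E.map π) := by
    refine Finite.of_surjective (Ideal.quotientMap (E.map π) π Ideal.le_comap_map) fun y => ?_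
    obtain ⟨b, rfl⟩ := Ideal.Quotient.mk_surjective y
    obtain ⟨a, rfl⟩ := hπ b
    exact ⟨Ideal.Quotient.mk _ a, Ideal.quotientMap_mk⟩
  have hEl : E.map π ≤ Ideal.span {(ℓ : B)} := by
    refine (Ideal.map_mono Ideal.mul_le_left).trans ?_
    rw [Ideal.map_span, Set.image_singleton, map_natCast]
  obtain ⟨J, J', b, hb, hb1, hJJ, ⟨eJ⟩, hbJ, hbJ'⟩ := exists_ideal_pair htfB P (E.map π) hℓ hEl
  obtain ⟨d, hd, hbd⟩ := (Ideal.mem_map_iff_of_surjective π hπ).mp hb1
  have ha : π (1 + d) = b := by rw [map_add, map_one, hbd, add_sub_cancel]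
  have hanzd : 1 + d ∈ nonZeroDivisors A := mem_nonZeroDivisors_of_notMem_minimalPrimes fun p hp => by
    obtain ⟨c, hc⟩ := Ideal.mem_span_singleton'.mp (Ideal.mul_le_left hd)
    rw [← hc, show 1 + c * (ℓ : A) = 1 - (ℓ : A) * (-c) by ring]
    exact one_sub_notMem_minimalPrimes htf hℓ hp _
  have hdX : d ∈ X := Ideal.mul_le_right hd
  set a := 1 + d with hadef
  have htop : Ideal.span {a} ⊔ X = ⊤ := (Ideal.eq_top_iff_one _).mpr (by
    rw [show (1 : A) = a - d by rw [hadef]; ring]
    exact Ideal.sub_mem _ (Submodule.mem_sup_left (Ideal.mem_span_singleton_self _)) (Submodule.mem_sup_right hdX))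
  let N : Ideal A := (⊥ : Ideal A).colon (↑I : Set A)
  have hIN : I * N = ⊥ := le_bot_iff.mp (Ideal.mul_le.mpr fun i hi z hz => by
    rw [mul_comm]; exact Submodule.mem_colon.mp hz i hi)
  have hprod : J.comap π * J'.comap π = Ideal.span {a} ⊔ I := by
    refine le_antisymm ?_ ?_
    · refine Ideal.mul_le.mpr fun u hu w hw => ?_
      have : π (u * w) ∈ Ideal.span {π a} := by rw [ha, ← hJJ, map_mul]; exact Ideal.mul_mem_mul hu hw
      obtain ⟨z, hz⟩ := Ideal.mem_span_singleton'.mp this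
      obtain ⟨z', rfl⟩ := hπ z
      rw [← add_sub_cancel (z' * a) (u * w)]
      exact Ideal.add_mem _ (Submodule.mem_sup_left (Ideal.mem_span_singleton'.mpr ⟨z', rfl⟩))
        (Submodule.mem_sup_right (RingHom.mem_ker.mpr (by rw [map_sub, map_mul π z' a, hz, sub_self])))
    · have hI : I ≤ J.comap π * J'.comap π := by
        have h1 : I ≤ I * (Ideal.span {a} ⊔ I) := fun i hi => by
          have h2 : i ∈ I * (Ideal.span {a} ⊔ I ⊔ N) := by
            rw [show Ideal.span {a} ⊔ I ⊔ N = ⊤ by rw [sup_assoc]; exact htop, Ideal.mul_top]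
            exact hi
          rwa [Ideal.mul_sup, hIN, sup_bot_eq] at h2
        refine h1.trans (Ideal.mul_mono (fun i hi => ?_) (sup_le ?_ fun i hi => ?_))
        · show π i ∈ J
          rw [RingHom.mem_ker.mp hi]; exact zero_mem _
        · rw [Ideal.span_singleton_le_iff_mem]
          show π a ∈ J'
          rw [ha]; exact hbJ'
        · show π i ∈ J'
          rw [RingHom.mem_ker.mp hi]; exact zero_mem _
      refine sup_le ?_ hI
      rw [Ideal.span_singleton_le_iff_mem]
      have hb' : π a ∈ (J.comap π * J'.comap π).map π := by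
        rw [Ideal.map_mul, Ideal.map_comap_of_surjective π hπ, Ideal.map_comap_of_surjective π hπ, hJJ, ha]
        exact Ideal.mem_span_singleton_self _
      obtain ⟨z, hz, hza⟩ := (Ideal.mem_map_iff_of_surjective π hπ).mp hb'
      rw [← add_sub_cancel z a]
      exact Ideal.add_mem _ hz (hI (RingHom.mem_ker.mpr (by rw [map_sub, hza, sub_self])))
  have hinv : (Ideal.span {a} ⊔ I) * (Ideal.span {a} ⊔ N) = Ideal.span {a} := by
    rw [Ideal.sup_mul, Ideal.mul_sup I, hIN, sup_bot_eq, mul_comm I, ← Ideal.mul_sup]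
    rw [show Ideal.span {a} ⊔ N ⊔ I = ⊤ by rw [sup_assoc, sup_comm N]; exact htop, Ideal.mul_top]
  rw [← hprod, mul_assoc] at hinv
  let F := FractionRing A
  let φ : Ideal A → Submodule A F := IsLocalization.coeSubmodule F
  have hu : IsUnit (φ (Ideal.span {a})) := by
    have hau : IsUnit (algebraMap A F a) := IsLocalization.map_units F ⟨a, hanzd⟩
    simp only [φ, IsLocalization.coeSubmodule_span_singleton]
    exact hau.map (Submodule.spanSingleton A (A := F))
  have hJu : IsUnit (φ (J.comap π)) := by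
    rw [← hinv] at hu
    simp only [φ, IsLocalization.coeSubmodule_mul] at hu
    exact isUnit_of_mul_isUnit_left hu
  let e₀ : J.comap π ≃ₗ[A] φ (J.comap π) :=
    Submodule.equivMapOfInjective _ (IsFractionRing.injective A F) _
  haveI : Module.Invertible A (φ (J.comap π)) := inferInstanceAs (Module.Invertible A hJu.unit)
  haveI : Module.Invertible A (J.comap π) := Module.Invertible.congr e₀.symm
  refine ⟨CommRing.Pic.mk A (J.comap π), ?_⟩
  haveI : Module.Invertible B J := Module.Invertible.congr eJ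
  let g : (J.comap π : Ideal A) →ₗ[A] J :=
    { toFun := fun u => ⟨π u.1, u.2⟩
      map_add' := fun u w => Subtype.ext (map_add π _ _)
      map_smul' := fun r u => Subtype.ext (map_mul π r u.1) }
  have hg : Function.Surjective (g.liftBaseChange B) := fun w => by
    obtain ⟨z, hz⟩ := hπ w.1
    exact ⟨1 ⊗ₜ ⟨z, by show π z ∈ J; rw [hz]; exact w.2⟩, by simp [g, Subtype.ext_iff, hz]⟩
  have hbij := Module.Invertible.bijective_of_surjective hg
  show CommRing.Pic.mapAlgebra A B _ = P
  rw [CommRing.Pic.mapAlgebra_apply]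
  exact CommRing.Pic.mk_eq_iff.mpr ⟨(AlgebraTensorModule.congr (LinearEquiv.refl B B)
    (CommRing.Pic.mk.linearEquiv A (J.comap π : Ideal A))) ≪≫ₗ LinearEquiv.ofBijective _ hbij ≪≫ₗ eJ.symm⟩

end PicSurjLib
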